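/-
Relators of the presented group Fi23 and of a chain of its subgroups, as powers of words in numbered generators.
-/
import Cfsg.Agent.Lib.Spor.TC.Word

namespace CfsgLib.Spor.Fi23

open CfsgLib.Spor.TC

/-- Relators on all ten generators. -/
def relsG : List PowRel := [
  ([0, 1], 3),
  ([0, 2], 2),
  ([0, 3], 2),
  ([0, 4], 2),
  ([0, 5], 2),
  ([0, 6], 2),
  ([0, 7], 2),
  ([0, 8], 2),
  ([0, 9], 2),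
  ([1, 2], 3),
  ([1, 3], 2),
  ([1, 4], 2),
  ([1, 5], 2),
  ([1, 6], 2),
  ([1, 7], 2),
  ([1, 8], 2),
  ([1, 9], 2),
  ([2, 3], 3),
  ([2, 4], 2),
  ([2, 5], 2),
  ([2, 6], 2),
  ([2, 7], 2),
  ([2, 8], 2),
  ([2, 9], 2),
  ([3, 4], 3),
  ([3, 5], 2),
  ([3, 6], 2),
  ([3, 7], 2),
  ([3, 8], 3),
  ([3, 9], 2),
  ([4, 5], 3),
  ([4, 6], 2),
  ([4, 7], 2),
  ([4, 8], 2),
  ([4, 9], 2),
  ([5, 6], 3),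
  ([5, 7], 2),
  ([5, 8], 2),
  ([5, 9], 2),
  ([6, 7], 3),
  ([6, 8], 2),
  ([6, 9], 2),
  ([7, 8], 2),
  ([7, 9], 2),
  ([8, 9], 3),
  ([3, 2, 1, 3, 4, 5, 3, 8, 9], 10),
  ([0, 1, 2, 3, 4, 5, 8], 9)]

/-- Relators on `a, …, i`. -/
def relsH : List PowRel := [
  ([0, 1], 3),
  ([0, 2], 2),
  ([0, 3], 2),
  ([0, 4], 2),
  ([0, 5], 2),
  ([0, 6], 2),
  ([0, 7], 2),
  ([0, 8], 2),
  ([1, 2], 3),
  ([1, 3], 2),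
  ([1, 4], 2),
  ([1, 5], 2),
  ([1, 6], 2),
  ([1, 7], 2),
  ([1, 8], 2),
  ([2, 3], 3),
  ([2, 4], 2),
  ([2, 5], 2),
  ([2, 6], 2),
  ([2, 7], 2),
  ([2, 8], 2),
  ([3, 4], 3),
  ([3, 5], 2),
  ([3, 6], 2),
  ([3, 7], 3),
  ([3, 8], 2),
  ([4, 5], 3),
  ([4, 6], 2),
  ([4, 7], 2),
  ([4, 8], 2),
  ([5, 6], 3),
  ([5, 7], 2),
  ([5, 8], 2),
  ([6, 7], 2),
  ([6, 8], 2),
  ([7, 8], 3),
  ([3, 2, 1, 3, 4, 5, 3, 7, 8], 10),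
  ([0, 1, 2, 3, 4, 5, 7], 9)]

/-- Relators on `b, …, i`. -/
def relsO : List PowRel := [
  ([0, 1], 3),
  ([0, 2], 2),
  ([0, 3], 2),
  ([0, 4], 2),
  ([0, 5], 2),
  ([0, 6], 2),
  ([0, 7], 2),
  ([1, 2], 3),
  ([1, 3], 2),
  ([1, 4], 2),
  ([1, 5], 2),
  ([1, 6], 2),
  ([1, 7], 2),
  ([2, 3], 3),
  ([2, 4], 2),
  ([2, 5], 2),
  ([2, 6], 3),
  ([2, 7], 2),
  ([3, 4], 3),
  ([3, 5], 2),
  ([3, 6], 2),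
  ([3, 7], 2),
  ([4, 5], 3),
  ([4, 6], 2),
  ([4, 7], 2),
  ([5, 6], 2),
  ([5, 7], 2),
  ([6, 7], 3),
  ([2, 1, 0, 2, 3, 4, 2, 6, 7], 10)]

/-- Relators on `b, …, h`. -/
def relsE : List PowRel := [
  ([0, 1], 3),
  ([0, 2], 2),
  ([0, 3], 2),
  ([0, 4], 2),
  ([0, 5], 2),
  ([0, 6], 2),
  ([1, 2], 3),
  ([1, 3], 2),
  ([1, 4], 2),
  ([1, 5], 2),
  ([1, 6], 2),
  ([2, 3], 3),
  ([2, 4], 2),
  ([2, 5], 2),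
  ([2, 6], 3),
  ([3, 4], 3),
  ([3, 5], 2),
  ([3, 6], 2),
  ([4, 5], 3),
  ([4, 6], 2),
  ([5, 6], 2)]

/-- Relators on `b, …, f, h`. -/
def relsE6 : List PowRel := [
  ([0, 1], 3),
  ([0, 2], 2),
  ([0, 3], 2),
  ([0, 4], 2),
  ([0, 5], 2),
  ([1, 2], 3),
  ([1, 3], 2),
  ([1, 4], 2),
  ([1, 5], 2),
  ([2, 3], 3),
  ([2, 4], 2),
  ([2, 5], 3),
  ([3, 4], 3),
  ([3, 5], 2),
  ([4, 5], 2)]

/-- Relators on `c, …, f, h`. -/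
def relsD : List PowRel := [
  ([0, 1], 3),
  ([0, 2], 2),
  ([0, 3], 2),
  ([0, 4], 2),
  ([1, 2], 3),
  ([1, 3], 2),
  ([1, 4], 3),
  ([2, 3], 3),
  ([2, 4], 2),
  ([3, 4], 2)]

/-- Relators on `c, d, e, h`. -/
def relsD4 : List PowRel := [
  ([0, 1], 3),
  ([0, 2], 2),
  ([0, 3], 2),
  ([1, 2], 3),
  ([1, 3], 3),
  ([2, 3], 2)]

end CfsgLib.Spor.Fi23
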