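/-
Words checked on the 31671 points.
-/
import Cfsg.Agent.Lib.Spor.Fi23.ActF.Data
import Cfsg.Agent.Lib.Spor.Fi23.Rels
import Cfsg.Agent.Lib.Spor.TC.Steps
import Cfsg.Agent.Lib.Spor.Fi23.Same.Part0
import Cfsg.Agent.Lib.Spor.Fi23.Same.Part1
import Cfsg.Agent.Lib.Spor.Fi23.Same.Part2
import Cfsg.Agent.Lib.Spor.Fi23.Same.Part3
import Cfsg.Agent.Lib.Spor.Fi23.Same.Part4
import Cfsg.Agent.Lib.Spor.Fi23.Same.Part5
import Cfsg.Agent.Lib.Spor.Fi23.Same.Part6
import Cfsg.Agent.Lib.Spor.Fi23.Same.Part7
import Cfsg.Agent.Lib.Spor.Fi23.Same.Part8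
import Cfsg.Agent.Lib.Spor.Fi23.Same.Part9
import Cfsg.Agent.Lib.Spor.Fi23.Same.Part10
import Cfsg.Agent.Lib.Spor.Fi23.Same.Part11

namespace CfsgLib.Spor.Fi23

open CfsgLib.Spor.TC

/-- Two words in all the letters act equally. -/
def SameK (A : Act) (w w' : List ℕ) : Prop :=
  allBelow A.K w = true ∧ allBelow A.K w' = true ∧ ∀ c, c < A.n → A.wact w c = A.wact w' c

theorem rho_eq_of_sameK {A : Act} {rels : List PowRel} (h : A.Valid rels) {w w' : List ℕ}
    (hok : SameK A w w') : h.rho (ev (A.letters rels) w) = h.rho (ev (A.letters rels) w') := by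
  have key : ∀ u, (∀ x ∈ u, x < A.K) → ∀ c : Fin A.n, (h.rho (ev (A.letters rels) u) c : ℕ) = A.wact u c := by
    intro u hu c
    rw [map_ev, ev_congr (g' := h.perm) fun x _ => h.rho_letters x, h.wact_eq hu]
  refine Equiv.ext fun c => Fin.ext ?_
  rw [key w (allBelow_spec hok.1) c, key w' (allBelow_spec hok.2.1) c]
  exact hok.2.2 c c.2

theorem eqs_below : ∀ p ∈ eqs, allBelow ActF.act.K p.1 = true ∧ allBelow ActF.act.K p.2 = true := by
  decide +kernel

theorem eqs_same : ∀ p ∈ eqs, SameK ActF.act p.1 p.2 := fun p hp =>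
  ⟨(eqs_below p hp).1, (eqs_below p hp).2, fun c hc =>
    eqsAt_spec (((((((eqs0.append eqs440).append (eqs880.append eqs1320)).append ((eqs1760.append eqs2200).append (eqs2640.append (eqs3080.append eqs3520)))).append (((eqs3960.append eqs4400).append (eqs4840.append eqs5280)).append ((eqs5720.append eqs6160).append (eqs6600.append (eqs7040.append eqs7480))))).append ((((eqs7920.append eqs8360).append (eqs8800.append eqs9240)).append ((eqs9680.append eqs10120).append (eqs10560.append (eqs11000.append eqs11440)))).append (((eqs11880.append eqs12320).append (eqs12760.append eqs13200)).append ((eqs13640.append eqs14080).append (eqs14520.append (eqs14960.append eqs15400)))))).append (((((eqs15840.append eqs16280).append (eqs16720.append eqs17160)).append ((eqs17600.append eqs18040).append (eqs18480.append (eqs18920.append eqs19360)))).append (((eqs19800.append eqs20240).append (eqs20680.append eqs21120)).append ((eqs21560.append eqs22000).append (eqs22440.append (eqs22880.append eqs23320))))).append ((((eqs23760.append eqs24200).append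 (eqs24640.append eqs25080)).append ((eqs25520.append eqs25960).append (eqs26400.append (eqs26840.append eqs27280)))).append (((eqs27720.append eqs28160).append (eqs28600.append eqs29040)).append ((eqs29480.append eqs29920).append (eqs30360.append (eqs30800.append eqs31240))))))) c (Nat.zero_le c) hc) p hp⟩

theorem same_z : SameK ActF.act [10, 10] [] := eqs_same _ List.mem_cons_self

theorem same_comm : ∀ x ∈ gensH, SameK ActF.act [10, x] [x, 10] := fun x hx =>
  eqs_same _ (List.mem_append_left _ (List.mem_append_right _ (List.mem_map.2 ⟨x, hx, rfl⟩)))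

theorem z_moves : ActF.act.wact [10] 1 ≠ 1 ∧ 1 < ActF.act.n := by decide +kernel

theorem same_p : SameK ActF.act (powWord [11] 23) [] := eqs_same _ (List.mem_cons_of_mem _ List.mem_cons_self)

theorem same_reps : ∀ p ∈ repWords,
    SameK ActF.act (powWord ([10] ++ (p.1 ++ ([10] ++ p.1.reverse))) p.2) [] := fun p hp =>
  eqs_same _ (List.mem_append_right _ (List.mem_map.2 ⟨p, hp, rfl⟩))

end CfsgLib.Spor.Fi23
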