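/-
Nine of the generators: a double cover of the smaller Fischer group.
-/
import Cfsg.Agent.Lib.Spor.Fi22.Order
import Cfsg.Agent.Lib.Spor.Fi23.Rels
import Cfsg.Agent.Lib.Spor.Fi23.CH.All
import Cfsg.Agent.Lib.Spor.Fi23.CO.All
import Cfsg.Agent.Lib.Spor.Fi23.CE.All
import Cfsg.Agent.Lib.Spor.Fi23.CE6.All
import Cfsg.Agent.Lib.Spor.Fi23.CD.All
import Cfsg.Agent.Lib.Spor.Fi23.CD4.All
import Cfsg.Prelude.Def_SporadicB

namespace CfsgLib.Spor.Fi23

open CfsgLib.Spor.TC

theorem card_le_cover : Nat.card (Pres 9 relsH) ≠ 0 ∧ Nat.card (Pres 9 relsH) ≤ 129123503308800 := by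
  have h1 := CD.cosetCert.card_le (rels' := relsD4) (l := 4) (by decide) (by decide +kernel) CD4.cosetCert.card_le_bot
  have h2 := CE6.cosetCert.card_le (rels' := relsD) (l := 5) (by decide) (by decide +kernel) h1
  have h3 := CE.cosetCert.card_le (rels' := relsE6) (l := 6) (by decide) (by decide +kernel) h2
  have h4 := CO.cosetCert.card_le (rels' := relsE) (l := 7) (by decide) (by decide +kernel) h3
  have h5 := CH.cosetCert.card_le (rels' := relsO) (l := 8) (by decide) (by decide +kernel) h4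
  exact ⟨h5.1, h5.2.trans (by decide +kernel)⟩

/-- The word whose ninth power is the extra relator of the smaller group. -/
def wordE : List ℕ := [1, 2, 3, 4, 5, 6, 7]

theorem relsH_sub : ∀ r ∈ relsH, r ∈ Fi22.relsG := by decide +kernel

theorem wordE_rel : (wordE, 9) ∈ Fi22.relsG := by decide +kernel

theorem relsH_shape : ∀ i j, i < j → j < 9 → ([i, j], 2) ∈ relsH ∨ ([i, j], 3) ∈ relsH := by
  have h : ∀ j : Fin 9, ∀ i : Fin 9, i < j → ([(i : ℕ), (j : ℕ)], 2) ∈ relsH ∨ ([(i : ℕ), (j : ℕ)], 3) ∈ relsH := by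
    decide +kernel
  exact fun i j hij hj => h ⟨j, hj⟩ ⟨i, hij.trans hj⟩ hij

theorem relsH_edges : ∀ e ∈ [(0, 1), (1, 2), (2, 3), (3, 4), (4, 5), (5, 6), (3, 7), (7, 8)],
    ([e.1, e.2], 3) ∈ relsH ∧ ([0, 1, 2, 3, 4, 5, 7], 9) ∈ relsH := by decide +kernel

/-- A double cover that does not split, from its order and a central element. -/
theorem isNonsplit (hcard : Nat.card (Pres 9 relsH) = 129123503308800)
    (hz : ev (presGen 9 relsH) wordE ^ 9 ∈ Subgroup.center (Pres 9 relsH))
    (hz1 : ev (presGen 9 relsH) wordE ^ 9 ≠ 1) :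
    Cfsg.IsNonsplitDoubleCover (Pres 9 relsH) (Pres 9 Fi22.relsG) := by
  have hs0 := sat_presGen 9 Fi22.relsG
  have hs : Sat 9 relsH (presGen 9 Fi22.relsG) := ⟨hs0.sq, hs0.out, fun r hr => hs0.rel r (relsH_sub r hr)⟩
  let π := presHom hs
  have hsurj : Function.Surjective π := presHom_surjective hs (closure_presGen 9 Fi22.relsG)
  haveI : Finite (Pres 9 relsH) := Nat.finite_of_card_ne_zero card_le_cover.1
  let z := ev (presGen 9 relsH) wordE ^ 9
  have hzker : z ∈ π.ker := by
    rw [MonoidHom.mem_ker, map_pow, map_ev, ev_congr (g' := presGen 9 Fi22.relsG) fun x _ => presHom_gen hs x]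
    exact hs0.rel _ wordE_rel
  have hker : Nat.card π.ker = 2 := by
    have h := π.ker.card_mul_index
    rw [Subgroup.index_ker, MonoidHom.range_eq_top.2 hsurj, Subgroup.card_top, hcard, Fi22.card_fi22] at h
    omega
  haveI : IsSimpleGroup (Pres 9 Fi22.relsG) := Fi22.simple_fi22
  have hcen : Subgroup.center (Pres 9 relsH) = π.ker := by
    refine le_antisymm (fun u hu => ?_) fun u hu => ?_
    · rw [MonoidHom.mem_ker]
      have h1 : π u ∈ Subgroup.center (Pres 9 Fi22.relsG) := Subgroup.mem_center_iff.2 fun y => by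
        obtain ⟨v, rfl⟩ := hsurj y
        rw [← map_mul, ← map_mul, Subgroup.mem_center_iff.1 hu v]
      rcases IsSimpleGroup.eq_bot_or_eq_top_of_normal (Subgroup.center (Pres 9 Fi22.relsG)) inferInstance with h | h
      · rwa [h, Subgroup.mem_bot] at h1
      · exfalso
        have hcomm : ∀ a b : Pres 9 Fi22.relsG, a * b = b * a := fun a b =>
          (Subgroup.mem_center_iff.1 (h ▸ Subgroup.mem_top a : a ∈ Subgroup.center _) b).symm
        letI : CommGroup (Pres 9 Fi22.relsG) := { (inferInstance : Group (Pres 9 Fi22.relsG)) with mul_comm := hcomm }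
        have hp := IsSimpleGroup.prime_card (α := Pres 9 Fi22.relsG)
        rw [Fi22.card_fi22] at hp
        exact absurd hp (by norm_num)
    · obtain ⟨v, hv⟩ := (Nat.card_eq_two_iff' (⟨1, one_mem _⟩ : π.ker)).1 hker
      by_cases h1 : u = 1
      · exact h1 ▸ one_mem _
      · have e1 := hv.2 ⟨u, hu⟩ fun e => h1 (congrArg Subtype.val e)
        have e2 := hv.2 ⟨z, hzker⟩ fun e => hz1 (congrArg Subtype.val e)
        rw [show u = z from congrArg Subtype.val (e1.trans e2.symm)]
        exact hz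
  refine ⟨hcen ▸ hker, ⟨(QuotientGroup.quotientMulEquivOfEq hcen).trans
    (QuotientGroup.quotientKerEquivOfSurjective π hsurj)⟩, fun L hL => ?_⟩
  haveI : L.Normal := ⟨fun l hl g => by
    obtain ⟨⟨⟨c, hc⟩, ⟨l', hl'⟩⟩, h⟩ := hL.2 g
    simp only at h
    rw [← h, mul_inv_rev]
    have : c * l' * l * (l'⁻¹ * c⁻¹) = l' * l * l'⁻¹ := by
      have hc' := Subgroup.mem_center_iff.1 hc
      rw [mul_assoc c l' l, ← hc' (l' * l), mul_assoc (l' * l) c, ← mul_assoc c, ← hc' l'⁻¹, mul_assoc l'⁻¹,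
        mul_inv_cancel, mul_one]
    rw [this]
    exact L.mul_mem (L.mul_mem hl' hl) (L.inv_mem hl')⟩
  let q := QuotientGroup.mk' L
  have h2 : Nat.card (Pres 9 relsH ⧸ L) = 2 := by
    rw [← Subgroup.index, hL.index_eq_card, hcen, hker]
  have hsq : ∀ t : Pres 9 relsH ⧸ L, t * t = 1 := fun t => by
    rw [← pow_two, ← h2]
    exact pow_card_eq_one'
  let s : ℕ → Pres 9 relsH ⧸ L := fun x => q (presGen 9 relsH x)
  have hrel : ∀ r ∈ relsH, ev s r.1 ^ r.2 = 1 := fun r hr => by
    rw [← map_ev q, ← map_pow, (sat_presGen 9 relsH).rel r hr, map_one]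
  have hedge : ∀ e ∈ [(0, 1), (1, 2), (2, 3), (3, 4), (4, 5), (5, 6), (3, 7), (7, 8)], s e.1 = s e.2 := fun e he => by
    have h := hrel _ (relsH_edges e he).1
    simp only [ev, List.map_cons, List.map_nil, List.prod_cons, List.prod_nil, mul_one] at h
    rw [pow_succ, pow_two, hsq, one_mul] at h
    rw [eq_inv_of_mul_eq_one_left h, inv_eq_of_mul_eq_one_right (hsq _)]
  have e1 := hedge (0, 1) (by decide); have e2 := hedge (1, 2) (by decide); have e3 := hedge (2, 3) (by decide)
  have e4 := hedge (3, 4) (by decide); have e5 := hedge (4, 5) (by decide); have e6 := hedge (5, 6) (by decide)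
  have e7 := hedge (3, 7) (by decide)
  simp only at e1 e2 e3 e4 e5 e6 e7
  have h9 := hrel _ (relsH_edges (0, 1) (by decide)).2
  simp only [ev, List.map_cons, List.map_nil, List.prod_cons, List.prod_nil, mul_one, ← e7, ← e5, ← e4, ← e3, ← e2,
    ← e1] at h9
  have hsev : s 0 * (s 0 * (s 0 * (s 0 * (s 0 * (s 0 * s 0))))) = s 0 := by simp [hsq, ← mul_assoc]
  have hodd : s 0 ^ 9 = s 0 := by
    show s 0 ^ (2 * 4 + 1) = s 0
    rw [pow_succ, pow_mul, pow_two, hsq, one_pow, one_mul]
  rw [hsev, hodd] at h9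
  have hq : q z = 1 := by
    rw [map_pow, map_ev]
    show ev s wordE ^ 9 = 1
    simp only [ev, wordE, List.map_cons, List.map_nil, List.prod_cons, List.prod_nil, mul_one, ← e7, ← e6, ← e5, ← e4,
      ← e3, ← e2, ← e1, h9, one_pow]
  have hzL : z ∈ L := (QuotientGroup.eq_one_iff z).1 hq
  exact hz1 (Subgroup.disjoint_def.1 hL.disjoint hz hzL)

/-- Centralizers along an isomorphism. -/
theorem map_centralizer {G G' : Type*} [Group G] [Group G'] (e : G ≃* G') (s : Set G) :
    (Subgroup.centralizer s).map e.toMonoidHom = Subgroup.centralizer (e '' s) := by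
  ext y
  rw [Subgroup.mem_map_equiv, Subgroup.mem_centralizer_iff, Subgroup.mem_centralizer_iff]
  refine ⟨?_, fun h x hx => ?_⟩
  · rintro h _ ⟨x, hx, rfl⟩
    have := congrArg e (h x hx)
    simpa using this
  · have := congrArg e.symm (h (e x) ⟨x, hx, rfl⟩)
    simpa using this

/-- Double covers along isomorphisms. -/
theorem transport {H K H' K' : Type*} [Group H] [Group K] [Group H'] [Group K']
    (h : Cfsg.IsNonsplitDoubleCover H K) (e : H ≃* H') (f : K ≃* K') : Cfsg.IsNonsplitDoubleCover H' K' := by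
  obtain ⟨h1, ⟨q⟩, h3⟩ := h
  have hc : (Subgroup.center H).map e.toMonoidHom = Subgroup.center H' := by
    rw [← Subgroup.centralizer_univ, map_centralizer, Set.image_univ_of_surjective e.surjective,
      Subgroup.centralizer_univ]
  refine ⟨?_, ⟨((QuotientGroup.congr _ _ e hc).symm.trans q).trans f⟩, fun L hL => h3 (L.comap e.toMonoidHom) ?_⟩
  · rw [← hc]
    exact (Subgroup.card_map_of_injective (f := e.toMonoidHom) e.injective).trans h1
  · refine Subgroup.isComplement'_of_disjoint_and_mul_eq_univ ?_ (Set.eq_univ_of_forall fun x => ?_)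
    · refine Subgroup.disjoint_def.2 fun {x} hx hxL => e.injective ?_
      rw [map_one]
      exact Subgroup.disjoint_def.1 hL.disjoint (hc ▸ Subgroup.mem_map_of_mem _ hx) hxL
    · obtain ⟨⟨⟨c, hc'⟩, ⟨l, hl⟩⟩, hx⟩ := hL.2 (e x)
      simp only at hx
      refine ⟨e.symm c, ?_, e.symm l, ?_, ?_⟩
      · rw [← hc] at hc'
        exact Subgroup.mem_map_equiv.1 hc'
      · show e (e.symm l) ∈ L
        rwa [e.apply_symm_apply]
      · show e.symm c * e.symm l = x
        rw [← map_mul, hx, e.symm_apply_apply]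

end CfsgLib.Spor.Fi23
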