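/-
The presented Fischer group on ten generators, and the numbering of its generators.
-/
import Cfsg.Agent.Lib.Spor.TC.Cox
import Cfsg.Agent.Lib.Spor.Fi23.Rels
import Cfsg.Prelude.Def_Spor_Fi23

namespace CfsgLib.Spor.Fi23

open CfsgLib.Spor.TC

/-- The number of a generator. -/
def num : Cfsg.Spor.Fi23.Gen → ℕ
  | .a => 0 | .b => 1 | .c => 2 | .d => 3 | .e => 4 | .f => 5 | .g => 6 | .j => 7 | .h => 8 | .i => 9

/-- The generator of a number. -/
def nam : ℕ → Cfsg.Spor.Fi23.Gen
  | 0 => .a | 1 => .b | 2 => .c | 3 => .d | 4 => .e | 5 => .f | 6 => .g | 7 => .j | 8 => .h | _ => .i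

/-- The further relators as words. -/
def more : List PowRel :=
  [([3, 2, 1, 3, 4, 5, 3, 8, 9], 10), ([0, 1, 2, 3, 4, 5, 8], 9)]

/-- The numbered presentation. -/
def coxData : CoxData Cfsg.Spor.Fi23.edges Cfsg.Spor.Fi23.extra where
  k := 10
  num := num
  nam := nam
  num_lt a := by cases a <;> decide
  nam_num a := by cases a <;> rfl
  num_nam x hx := by interval_cases x <;> rfl
  nodes a := by cases a <;> decide
  more := more
  more_iff g f hg hf := by
    simp only [more, Cfsg.Spor.Fi23.extra, List.forall_mem_cons, List.not_mem_nil, false_implies, implies_true,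
      and_true, map_mul, map_pow, hf, num, ev, List.map_cons, List.map_nil, List.prod_cons, List.prod_nil, mul_one]
    simp only [mul_assoc]

theorem rels_eq : coxData.rels = relsG := by decide +kernel

theorem gens_abcdefghi : ({Cfsg.Spor.Fi23.a, Cfsg.Spor.Fi23.b, Cfsg.Spor.Fi23.c, Cfsg.Spor.Fi23.d, Cfsg.Spor.Fi23.e,
    Cfsg.Spor.Fi23.f, Cfsg.Spor.Fi23.g, Cfsg.Spor.Fi23.h, Cfsg.Spor.Fi23.i} : Set (FreeGroup Cfsg.Spor.Fi23.Gen)) =
    (fun x => FreeGroup.of (coxData.nam x)) '' {x | x ∈ [0, 1, 2, 3, 4, 5, 6, 8, 9]} := by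
  ext x; simp [coxData, nam, eq_comm]

end CfsgLib.Spor.Fi23
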