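/-
Order, simplicity and transpositions of the presented Fischer group on ten generators.
-/
import Cfsg.Agent.Lib.Spor.Held.Extra
import Cfsg.Agent.Lib.Spor.Fi23.Cover
import Cfsg.Agent.Lib.Spor.Fi23.Checks
import Cfsg.Agent.Lib.Spor.Fi23.CG.All
import Cfsg.Agent.Lib.Spor.Fi23.TwentyThree.All
import Cfsg.Agent.Lib.Spor.Fi23.ActF.All

namespace CfsgLib.Spor.Fi23

open CfsgLib.Spor.TC MulAction

local notation "G₀" => Pres ActF.act.k relsG

theorem card_le : Nat.card G₀ ≠ 0 ∧ Nat.card G₀ ≤ 31671 * 129123503308800 :=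
  CG.cosetCert.card_le (rels' := relsH) (l := 9) (by decide) (by decide +kernel) card_le_cover

theorem levels_eq : levelsProd ActF.bases = 4089470473293004800 := by decide +kernel

theorem card_eq : Nat.card G₀ = 4089470473293004800 :=
  le_antisymm (card_le.2.trans (by decide +kernel))
    (levels_eq ▸ card_pres_ge ActF.act ActF.valid ActF.bases_ok card_le.1)

theorem rho_injective : Function.Injective ActF.valid.rho :=
  Held.rho_injective ActF.valid ActF.bases_ok ⟨card_le.1, levels_eq ▸ card_le.2.trans (by decide +kernel)⟩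

theorem heq {w w' : List ℕ} (h : SameK ActF.act w w') :
    ev (ActF.act.letters relsG) w = ev (ActF.act.letters relsG) w' := rho_injective (rho_eq_of_sameK ActF.valid h)

/-- The point stabilizer. -/
def subH : Subgroup G₀ := Subgroup.closure (ActF.act.letters relsG '' {x | x ∈ gensH})

theorem gensH_lt : ∀ x ∈ gensH, x < 10 := by decide

theorem subH_eq : subH = presSub ActF.act.k relsG [0, 1, 2, 3, 4, 5, 6, 8, 9] := by
  rw [subH, presSub]
  exact congrArg Subgroup.closure (Set.image_congr fun x hx =>
    Act.letters_of_lt (show x < ActF.act.k from gensH_lt x hx))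

/-- The action on 31671 cosets. -/
@[reducible] noncomputable def actionF : MulAction G₀ (Fin ActF.act.n) := ActF.valid.action

attribute [local instance] actionF

theorem exists_suborbitsF :
    ∃ S : Suborbits G₀ subH (Fin ActF.act.n) 3, (S.a : ℕ) = 0 ∧
      (∀ i : Fin 3, S.size i = [1, 28160, 3510].get i) ∧ S.rep 0 = S.a := by
  obtain ⟨S, h0, hsz, hrep⟩ := exists_suborbits (g := ActF.act.letters relsG)
    (fun x hx c => ActF.valid.action_apply hx c) ActF.top ActF.top_ok rfl rfl gensH subH rfl ActF.parts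
    ActF.parts_ok (subH_eq ▸ CG.cosetCert.index_le)
  exact ⟨S, h0, fun i => (hsz ⟨i, i.2⟩).trans (by fin_cases i <;> rfl), hrep ⟨0, by decide⟩ rfl⟩

theorem card_subH : Nat.card subH = 129123503308800 := by
  obtain ⟨S, -, -, -⟩ := exists_suborbitsF
  have h := subH.index_mul_card
  rw [S.index_eq, card_eq, Nat.card_fin] at h
  have : ActF.act.n = 31671 := rfl
  rw [this] at h
  omega

theorem hrel : ∀ r ∈ relsH, (r.1.map fun x => [0, 1, 2, 3, 4, 5, 6, 8, 9].getD x 10, r.2) ∈ relsG := by decide +kernel

/-- The nine generators in the whole group. -/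
noncomputable def nine : Pres 9 relsH →* G₀ :=
  subHom (k := 10) (rels := relsG) (rels' := relsH) [0, 1, 2, 3, 4, 5, 6, 8, 9] hrel

theorem range_nine : nine.range = subH :=
  ((range_subHom (k := 10) (rels := relsG) hrel).trans subH_eq.symm)

theorem card_nine : Nat.card (Pres 9 relsH) = 129123503308800 ∧ Function.Injective nine := by
  haveI : Finite (Pres 9 relsH) := Nat.finite_of_card_ne_zero card_le_cover.1
  have h : 129123503308800 ≤ Nat.card nine.range := le_of_eq (by rw [range_nine, card_subH])
  have h1 := Nat.card_le_card_of_surjective _ nine.rangeRestrict_surjective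
  have h2 := card_le_cover.2
  refine ⟨by omega, fun u v e => ?_⟩
  exact ((MonoidHom.rangeRestrict_surjective nine).bijective_of_nat_card_le (by omega)).1 (Subtype.ext e)

/-- The transposition centralized by the nine generators. -/
noncomputable def zee : G₀ := ActF.act.letters relsG 10

theorem zee_eq : zee = nine (ev (presGen 9 relsH) wordE ^ 9) := by
  rw [zee, ← ev_powWord]
  refine (extend_def ActF.act.defs (presGen ActF.act.k relsG) ActF.valid.below 0
    (powWord [1, 2, 3, 4, 5, 6, 8] 9) (by decide +kernel)).trans ?_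
  refine (ev_congr fun x hx => extend_of_lt _ _ (show x < ActF.act.k from
    (by decide +kernel : ∀ y ∈ powWord [1, 2, 3, 4, 5, 6, 8] 9, y < 10) x hx)).trans ?_
  rw [ev_powWord, ev_powWord, map_pow]
  congr 1

theorem zee_sq : zee * zee = 1 := by
  have h := heq same_z
  simpa [ev, zee] using h

theorem zee_ne : zee ≠ 1 := fun h => by
  obtain ⟨hz, hn⟩ := z_moves
  apply hz
  have h1 := ActF.valid.wact_eq (w := [10]) (fun x hx => by rw [List.mem_singleton.1 hx]; decide +kernel) ⟨1, hn⟩
  rw [← h1, show ev ActF.valid.perm [10] = ActF.valid.perm 10 by simp [ev], ← ActF.valid.rho_letters 10,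
    show ActF.act.letters relsG 10 = 1 from h, map_one]
  rfl

theorem commute_subH {y : G₀} (hy : y ∈ subH) : Commute zee y := by
  induction hy using Subgroup.closure_induction with
  | mem x hx =>
    obtain ⟨s, hs, rfl⟩ := hx
    have h := heq (same_comm s hs)
    simpa [ev, zee, Commute, SemiconjBy] using h
  | one => exact Commute.one_right _
  | mul u v _ _ hu hv => exact hu.mul_right hv
  | inv u _ hu => exact hu.inv_right

theorem nine_center :
    ev (presGen 9 relsH) wordE ^ 9 ∈ Subgroup.center (Pres 9 relsH) ∧ ev (presGen 9 relsH) wordE ^ 9 ≠ 1 := by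
  refine ⟨Subgroup.mem_center_iff.2 fun y => card_nine.2 ?_, fun h => zee_ne (by rw [zee_eq, h, map_one])⟩
  rw [map_mul, map_mul, ← zee_eq]
  exact (commute_subH (range_nine ▸ ⟨y, rfl⟩)).symm.eq

theorem nonsplit : Cfsg.IsNonsplitDoubleCover (Pres 9 relsH) (Pres 9 Fi22.relsG) :=
  isNonsplit card_nine.1 nine_center.1 nine_center.2

theorem simple : IsSimpleGroup G₀ := by
  obtain ⟨S, -, hsz, hrep⟩ := exists_suborbitsF
  haveI : Finite G₀ := Nat.finite_of_card_ne_zero (ne_of_eq_of_ne card_eq (by decide))
  haveI : Nontrivial G₀ := Finite.one_lt_card_iff_nontrivial.1 (lt_of_lt_of_eq (by decide) card_eq.symm)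
  refine Held.isSimpleGroup_of_prime_element S (i₀ := 0) rfl hrep ?_ (fun u hu => rho_injective ?_)
    (p := 23) (by decide) ⟨129123503308800, ?_, by decide⟩ (ActF.act.letters relsG 11) ?_ fun K hK hwK => ?_
  · rw [Nat.card_fin, show S.size = fun i => [1, 28160, 3510].get i from funext hsz]
    decide +kernel
  · rw [map_one]
    exact Equiv.ext hu
  · rw [card_eq, Nat.card_fin]
    rfl
  · have h := heq same_p
    rw [ev_powWord] at h
    simpa [ev] using h
  · refine eq_top_of_collapse TwentyThree.cosetCert K hK fun p hp => ?_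
    rw [List.mem_singleton.1 hp]
    have h11 : ActF.act.letters relsG 11 = ev (presGen ActF.act.k relsG) (ActF.act.defs.getD 1 []) := by
      refine (extend_def ActF.act.defs (presGen ActF.act.k relsG) ActF.valid.below 1 (ActF.act.defs.getD 1 []) (by decide +kernel)).trans ?_
      exact ev_congr fun x hx => extend_of_lt _ _ (show x < ActF.act.k from
        (by decide +kernel : ∀ y ∈ ActF.act.defs.getD 1 [], y < 10) x hx)
    rw [h11] at hwK
    refine K.pow_mem (Eq.mp (congrArg (· ∈ K) ?_) hwK) _
    rfl

theorem centralizer_zee : Subgroup.centralizer ({zee} : Set G₀) = subH := by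
  obtain ⟨S, -, hsz, hrep⟩ := exists_suborbitsF
  haveI := simple
  have hle : subH ≤ Subgroup.centralizer ({zee} : Set G₀) := fun y hy =>
    Subgroup.mem_centralizer_singleton_iff.2 (commute_subH hy).symm.eq
  rcases S.maximal (i₀ := 0) rfl hrep (by
    rw [Nat.card_fin, show S.size = fun i => [1, 28160, 3510].get i from funext hsz]
    decide +kernel) hle with h | h
  · exact h
  · exfalso
    have hc : zee ∈ Subgroup.center G₀ := Subgroup.mem_center_iff.2 fun y =>
      (Subgroup.mem_centralizer_singleton_iff.1 (h ▸ Subgroup.mem_top y))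
    rcases IsSimpleGroup.eq_bot_or_eq_top_of_normal (Subgroup.center G₀) inferInstance with hb | hb
    · exact zee_ne (Subgroup.mem_bot.1 (hb ▸ hc))
    · have hcomm : ∀ a b : G₀, a * b = b * a := fun a b =>
        (Subgroup.mem_center_iff.1 (hb ▸ Subgroup.mem_top a : a ∈ Subgroup.center _) b).symm
      letI : CommGroup G₀ := { (inferInstance : Group G₀) with mul_comm := hcomm }
      have hp := IsSimpleGroup.prime_card (α := G₀)
      rw [card_eq] at hp
      exact absurd hp (by norm_num)

theorem order_two : orderOf zee = 2 := orderOf_eq_prime (by rw [pow_two, zee_sq]) zee_ne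

theorem ev_reverse {G : Type*} [Group G] {g : ℕ → G} : ∀ {w : List ℕ}, (∀ x ∈ w, g x * g x = 1) →
    ev g w.reverse = (ev g w)⁻¹ := by
  intro w
  induction w with
  | nil => intro _; simp [ev]
  | cons a w ih =>
    intro h
    rw [List.reverse_cons, ev_append, ih fun x hx => h x (List.mem_cons_of_mem _ hx), ev_cons g a w, mul_inv_rev,
      inv_eq_of_mul_eq_one_right (h a List.mem_cons_self)]
    simp [ev]

theorem parts_gens : ∀ L ∈ ActF.parts, L.gens = gensH ∧ ActF.act.orbitOK L = true := by
  have h := ActF.parts_ok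
  simp only [Act.orbitsOK, Bool.and_eq_true] at h
  have hall := h.1.1.2
  revert hall
  generalize ActF.parts = Ls
  induction Ls with
  | nil => simp
  | cons L Ls ih =>
    intro hall L' hL'
    simp only [Bool.and_eq_true] at hall
    rcases List.mem_cons.1 hL' with rfl | hL'
    · exact ⟨beqWord_iff hall.1.1, hall.1.2⟩
    · exact ih hall.2 L' hL'

theorem parts_cover (x : Fin ActF.act.n) : ∃ i : Fin ActF.parts.length, (ActF.parts.get i).memB x = true := by
  have h := ActF.parts_ok
  simp only [Act.orbitsOK, Bool.and_eq_true] at h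
  have hx := allFrom_spec h.1.2 x (Nat.zero_le _) (by have := x.2; omega)
  revert hx
  generalize ActF.parts = Ls
  induction Ls with
  | nil => intro hx; cases hx
  | cons L l ih =>
    intro hx
    simp only [Bool.or_eq_true] at hx
    rcases hx with hx | hx
    · exact ⟨⟨0, Nat.succ_pos _⟩, hx⟩
    · obtain ⟨i, hi⟩ := ih hx; exact ⟨i.succ, hi⟩

theorem reps_mem : ActF.parts.length = repWords.length ∧ ∀ i : Fin repWords.length,
    (ActF.parts.getD i ActF.top).memB (ActF.act.wact (repWords.getD i ([], 0)).1 0) = true := by decide +kernel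

theorem pair_orders (g : G₀) :
    (zee * (g * zee * g⁻¹)) ^ 2 = 1 ∨ (zee * (g * zee * g⁻¹)) ^ 3 = 1 := by
  obtain ⟨S, h0, -, -⟩ := exists_suborbitsF
  have hrepW : ∀ p ∈ repWords, (∀ x ∈ p.1, x < 10) ∧ (p.2 = 2 ∨ p.2 = 3) := by decide +kernel
  have hcov : ∀ x : Fin ActF.act.n, ∃ p ∈ repWords, x ∈ orbit subH (ev (ActF.act.letters relsG) p.1 • S.a) := by
    intro x
    obtain ⟨i, hi⟩ := parts_cover x
    obtain ⟨hgens, hok⟩ := parts_gens _ (ActF.parts.get_mem i)
    obtain ⟨b, -, hiff, -⟩ := orbit_eq_level (g := ActF.act.letters relsG) (ActF.parts.get i)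
      (fun y hy c => ActF.valid.action_apply hy c) hok
    rw [hgens] at hiff
    have hlen := reps_mem.1
    let j : Fin repWords.length := ⟨i, lt_of_lt_of_eq i.2 hlen⟩
    have hm := reps_mem.2 j
    rw [List.getD_eq_getElem _ _ i.2] at hm
    have hj : repWords.getD j ([], 0) ∈ repWords := by
      rw [List.getD_eq_getElem _ _ j.2]; exact List.getElem_mem _
    refine ⟨_, hj, ?_⟩
    have hpt : ((ev (ActF.act.letters relsG) (repWords.getD j ([], 0)).1 • S.a : Fin ActF.act.n) : ℕ) =
        ActF.act.wact (repWords.getD j ([], 0)).1 0 := by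
      show ((ActF.valid.rho (ev (ActF.act.letters relsG) (repWords.getD j ([], 0)).1) S.a : Fin ActF.act.n) : ℕ) = _
      rw [map_ev, ev_congr (g' := ActF.valid.perm) fun y _ => ActF.valid.rho_letters y,
        ActF.valid.wact_eq (fun y hy => lt_of_lt_of_le ((hrepW _ hj).1 y hy) (Nat.le_add_right _ _)), h0]
    have h1 := (hiff x).2 hi
    have h2 : (ev (ActF.act.letters relsG) (repWords.getD j ([], 0)).1 • S.a : Fin ActF.act.n) ∈
        orbit subH b := (hiff _).2 (hpt.symm ▸ hm)
    exact (orbit_eq_iff.2 h2).symm ▸ h1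
  obtain ⟨p, hp, h, hh⟩ := hcov (g • S.a)
  set u := ev (ActF.act.letters relsG) p.1 with hu
  have hk : ((h : G₀) * u)⁻¹ * g ∈ subH := (S.mem_iff _).1 (by
    rw [mul_smul, inv_smul_eq_iff, mul_smul]; exact hh.symm)
  have hconj : g * zee * g⁻¹ = (h : G₀) * (u * zee * u⁻¹) * (h : G₀)⁻¹ := by
    have hg : g = (h : G₀) * u * (((h : G₀) * u)⁻¹ * g) := by group
    generalize ((h : G₀) * u)⁻¹ * g = k at hk hg
    rw [hg, mul_inv_rev, mul_inv_rev, mul_assoc _ k zee, ← (commute_subH hk).eq]
    group
  have hprod : zee * (g * zee * g⁻¹) = (h : G₀) * (zee * (u * zee * u⁻¹)) * (h : G₀)⁻¹ := by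
    rw [hconj, ← mul_assoc zee, ← mul_assoc zee, (commute_subH h.2).eq]
    group
  have hpw : (zee * (u * zee * u⁻¹)) ^ p.2 = 1 := by
    have e := heq (same_reps p hp)
    rw [ev_powWord, ev_append, ev_append, ev_append] at e
    have hrev : ev (ActF.act.letters relsG) p.1.reverse = u⁻¹ := ev_reverse fun x hx => by
      rw [Act.letters_of_lt (show x < ActF.act.k from (hrepW _ hp).1 x hx)]
      exact (sat_presGen _ _).sq x
    rw [hrev] at e
    simpa [ev, zee, hu, mul_assoc] using e
  rw [hprod, conj_pow]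
  rcases (hrepW p hp).2 with e | e <;> rw [e] at hpw
  · exact Or.inl (by rw [hpw, mul_one, mul_inv_cancel])
  · exact Or.inr (by rw [conj_pow, hpw, mul_one, mul_inv_cancel])

end CfsgLib.Spor.Fi23
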