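/-
The presented Fischer group of order 4089470473293004800: simplicity, the double cover, and the transpositions.
-/
import Cfsg.Agent.Lib.Spor.Fi23.Order
import Cfsg.Agent.Lib.Spor.Fi23.Cox
import Cfsg.Agent.Lib.Spor.Fi22.Final

namespace CfsgLib.Spor.Fi23

open CfsgLib.Spor.TC MulAction

theorem isFi23 : Cfsg.IsFi23 Cfsg.Spor.Fi23 := by
  obtain ⟨e, -⟩ := coxData.exists_equiv (k := 10) rfl rels_eq
  haveI : IsSimpleGroup (Pres 10 relsG) := simple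
  exact ⟨e.symm.isSimpleGroup, (Nat.card_congr e.toEquiv).symm.trans card_eq⟩

theorem nine_orbits :
    (((Subgroup.closure ({Cfsg.Spor.Fi23.a, Cfsg.Spor.Fi23.b, Cfsg.Spor.Fi23.c, Cfsg.Spor.Fi23.d, Cfsg.Spor.Fi23.e, Cfsg.Spor.Fi23.f, Cfsg.Spor.Fi23.g, Cfsg.Spor.Fi23.h, Cfsg.Spor.Fi23.i} : Set (FreeGroup Cfsg.Spor.Fi23.Gen))).map (PresentedGroup.mk (Cfsg.Spor.coxRelators Cfsg.Spor.Fi23.edges ∪ {r | r ∈ Cfsg.Spor.Fi23.extra})))).index = 31671 ∧
    ∀ i : Fin 3, ∃ q : Cfsg.Spor.Fi23 ⧸ (((Subgroup.closure ({Cfsg.Spor.Fi23.a, Cfsg.Spor.Fi23.b, Cfsg.Spor.Fi23.c, Cfsg.Spor.Fi23.d, Cfsg.Spor.Fi23.e, Cfsg.Spor.Fi23.f, Cfsg.Spor.Fi23.g, Cfsg.Spor.Fi23.h, Cfsg.Spor.Fi23.i} : Set (FreeGroup Cfsg.Spor.Fi23.Gen))).map (PresentedGroup.mk (Cfsg.Spor.coxRelators Cfsg.Spor.Fi23.edges ∪ {r | r ∈ Cfsg.Spor.Fi23.extra})))),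
      (MulAction.orbit (((Subgroup.closure ({Cfsg.Spor.Fi23.a, Cfsg.Spor.Fi23.b, Cfsg.Spor.Fi23.c, Cfsg.Spor.Fi23.d, Cfsg.Spor.Fi23.e, Cfsg.Spor.Fi23.f, Cfsg.Spor.Fi23.g, Cfsg.Spor.Fi23.h, Cfsg.Spor.Fi23.i} : Set (FreeGroup Cfsg.Spor.Fi23.Gen))).map (PresentedGroup.mk (Cfsg.Spor.coxRelators Cfsg.Spor.Fi23.edges ∪ {r | r ∈ Cfsg.Spor.Fi23.extra})))) q).ncard = [1, 28160, 3510].get i := by
  obtain ⟨e, he⟩ := coxData.exists_equiv (k := 10) rfl rels_eq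
  letI := actionF
  obtain ⟨S, -, hsz, -⟩ := exists_suborbitsF
  have hH : Subgroup.map (G := Pres 10 relsG) e.toMonoidHom subH = (((Subgroup.closure ({Cfsg.Spor.Fi23.a, Cfsg.Spor.Fi23.b, Cfsg.Spor.Fi23.c, Cfsg.Spor.Fi23.d, Cfsg.Spor.Fi23.e, Cfsg.Spor.Fi23.f, Cfsg.Spor.Fi23.g, Cfsg.Spor.Fi23.h, Cfsg.Spor.Fi23.i} : Set (FreeGroup Cfsg.Spor.Fi23.Gen))).map (PresentedGroup.mk (Cfsg.Spor.coxRelators Cfsg.Spor.Fi23.edges ∪ {r | r ∈ Cfsg.Spor.Fi23.extra})))) :=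
    (congrArg (Subgroup.map (G := Pres 10 relsG) e.toMonoidHom) subH_eq).trans
      (he [0, 1, 2, 3, 4, 5, 6, 8, 9] _ gens_abcdefghi (by decide))
  obtain ⟨hidx, hq⟩ := S.exists_map e _ hH
  exact ⟨hidx.trans (by rw [Nat.card_fin]; rfl), fun i => by
    obtain ⟨q, h⟩ := hq i
    exact ⟨q, h.trans (hsz i)⟩⟩

theorem nine_double_cover :
    Cfsg.IsNonsplitDoubleCover (((Subgroup.closure ({Cfsg.Spor.Fi23.a, Cfsg.Spor.Fi23.b, Cfsg.Spor.Fi23.c, Cfsg.Spor.Fi23.d, Cfsg.Spor.Fi23.e, Cfsg.Spor.Fi23.f, Cfsg.Spor.Fi23.g, Cfsg.Spor.Fi23.h, Cfsg.Spor.Fi23.i} : Set (FreeGroup Cfsg.Spor.Fi23.Gen))).map (PresentedGroup.mk (Cfsg.Spor.coxRelators Cfsg.Spor.Fi23.edges ∪ {r | r ∈ Cfsg.Spor.Fi23.extra})))) Cfsg.Spor.Fi22 := by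
  obtain ⟨e, he⟩ := coxData.exists_equiv (k := 10) rfl rels_eq
  obtain ⟨e22, -⟩ := Fi22.exists_equiv_gen
  have hr : (e.toMonoidHom.comp nine).range =
      (((Subgroup.closure ({Cfsg.Spor.Fi23.a, Cfsg.Spor.Fi23.b, Cfsg.Spor.Fi23.c, Cfsg.Spor.Fi23.d, Cfsg.Spor.Fi23.e, Cfsg.Spor.Fi23.f, Cfsg.Spor.Fi23.g, Cfsg.Spor.Fi23.h, Cfsg.Spor.Fi23.i} : Set (FreeGroup Cfsg.Spor.Fi23.Gen))).map (PresentedGroup.mk (Cfsg.Spor.coxRelators Cfsg.Spor.Fi23.edges ∪ {r | r ∈ Cfsg.Spor.Fi23.extra})))) := by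
    exact ((MonoidHom.range_comp e.toMonoidHom nine).trans
      (congrArg (Subgroup.map (G := Pres 10 relsG) e.toMonoidHom) (range_nine.trans subH_eq))).trans
      (he [0, 1, 2, 3, 4, 5, 6, 8, 9] _ gens_abcdefghi (by decide))
  rw [← hr]
  exact transport nonsplit
    (MonoidHom.ofInjective (f := e.toMonoidHom.comp nine) (e.injective.comp card_nine.2)) e22

theorem realization :
    ∃ (G : Type) (_ : Group G) (_ : Finite G), Cfsg.IsFi23 G ∧ ∃ D : Set G, Cfsg.IsThreeTranspositionClass D ∧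
      Nat.card D = 31671 ∧ ∀ d ∈ D, ∃ (K : Type) (_ : Group K), Cfsg.IsFi22 K ∧
        Cfsg.IsNonsplitDoubleCover (Subgroup.centralizer ({d} : Set G)) K := by
  haveI : Finite (Pres ActF.act.k relsG) := Nat.finite_of_card_ne_zero (ne_of_eq_of_ne card_eq (by decide))
  haveI := simple
  letI := actionF
  refine ⟨Pres ActF.act.k relsG, inferInstance, inferInstance, ⟨simple, card_eq⟩, conjugatesOf zee,
    ⟨⟨fun d hd => ?_, fun d hd e he => ?_⟩, ⟨zee, mem_conjugatesOf_self, rfl⟩, ?_⟩, ?_, fun d hd => ?_⟩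
  · obtain ⟨g, rfl⟩ := isConj_iff.1 hd
    rw [← order_two]
    exact orderOf_injective (MulAut.conj g).toMonoidHom (MulAut.conj g).injective zee
  · obtain ⟨g, rfl⟩ := isConj_iff.1 hd
    obtain ⟨k, rfl⟩ := isConj_iff.1 he
    have h := pair_orders (g⁻¹ * k)
    have e1 : g * zee * g⁻¹ * (k * zee * k⁻¹) = g * (zee * (g⁻¹ * k * zee * (g⁻¹ * k)⁻¹)) * g⁻¹ := by group
    rw [e1, conj_pow, conj_pow]
    rcases h with h | h
    · exact Or.inl (by rw [h, mul_one, mul_inv_cancel])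
    · exact Or.inr (by rw [h, mul_one, mul_inv_cancel])
  · have hn : (Subgroup.closure (conjugatesOf zee)).Normal := by
      rw [show conjugatesOf zee = Group.conjugatesOfSet ({zee} : Set (Pres ActF.act.k relsG)) by
        simp [Group.conjugatesOfSet]]
      exact Subgroup.normalClosure_normal
    rcases IsSimpleGroup.eq_bot_or_eq_top_of_normal _ hn with h | h
    · exact absurd ((Subgroup.eq_bot_iff_forall _).1 h zee (Subgroup.subset_closure mem_conjugatesOf_self)) zee_ne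
    · exact h
  · obtain ⟨S, -, -, -⟩ := exists_suborbitsF
    have e : conjugatesOf zee = MulAction.orbit (ConjAct (Pres ActF.act.k relsG)) zee := by
      ext x; rw [ConjAct.mem_orbit_conjAct]; exact ⟨fun h => h.symm, fun h => h.symm⟩
    rw [e, Nat.card_coe_set_eq, ← MulAction.index_stabilizer, ConjAct.stabilizer_eq_centralizer]
    rw [show Subgroup.centralizer ({ConjAct.toConjAct zee} : Set (ConjAct (Pres ActF.act.k relsG))) =
      (Subgroup.centralizer ({zee} : Set (Pres ActF.act.k relsG))).map ConjAct.toConjAct.toMonoidHom from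
      (congrArg Subgroup.centralizer (Set.image_singleton (f := ConjAct.toConjAct) (a := zee)).symm).trans
        (map_centralizer ConjAct.toConjAct _).symm]
    refine (Subgroup.index_map_equiv (e := ConjAct.toConjAct) (Subgroup.centralizer ({zee} : Set (Pres ActF.act.k relsG)))).trans ?_
    rw [centralizer_zee, S.index_eq, Nat.card_fin]
    rfl
  · obtain ⟨g, rfl⟩ := isConj_iff.1 hd
    refine ⟨Pres 9 Fi22.relsG, inferInstance, ⟨Fi22.simple_fi22, Fi22.card_fi22⟩, ?_⟩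
    have h : (Subgroup.centralizer ({zee} : Set (Pres ActF.act.k relsG))).map (MulAut.conj g).toMonoidHom =
        Subgroup.centralizer ({g * zee * g⁻¹} : Set (Pres ActF.act.k relsG)) := by
      rw [map_centralizer (MulAut.conj g)]
      simp
    rw [← h, centralizer_zee]
    exact transport nonsplit (((MonoidHom.ofInjective card_nine.2).trans (MulEquiv.subgroupCongr range_nine)).trans
      (subH.equivMapOfInjective (MulAut.conj g).toMonoidHom (MulAut.conj g).injective)) (MulEquiv.refl _)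

end CfsgLib.Spor.Fi23
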